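import Groth.Agent.Lib.RigDesc26.Points
import Groth.Agent.Lib.Poincare.DualBC
import Groth.Agent.Lib.RLpsi8.FibreVanish
import Groth.Agent.Lib.TorsPic29.Divisible
import Groth.Agent.Lib.LefPic7.Step
import Groth.Agent.Lib.SepPts.SmoothDense
import Groth.Agent.Lib.SmoothUnivOpen4.Basic
import Groth.Agent.Lib.Chev28.FlatEquidim
import Groth.Agent.Lib.GenericSmooth.Basic
import Groth.Agent.Lib.TorusNorm25.SmoothLift
import Groth.Agent.S0981
import Groth.Agent.S0412

/-!
# The Picard scheme of a relative curve is smooth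
-/

set_option autoImplicit false
set_option linter.all false
set_option backward.isDefEq.respectTransparency false
set_option maxHeartbeats 1000000
set_option synthInstance.maxHeartbeats 200000

universe u

open CategoryTheory CategoryTheory.Limits AlgebraicGeometry Opposite TopologicalSpace
open GrothLib.Cube

noncomputable section

namespace GrothLib.PicSmooth26

/-- `IsRelPicK` is stable under base change. -/
theorem isRelPicK_bc {S S' : Scheme.{u}} (b : S' ⟶ S) (A At : Over S)
    (φ : ∀ T : Over S, PicF.Cl (PicF.XT A.hom T) → (T ⟶ At))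
    (hφ : AbDual.IsRelPicK Scheme.fppfPrecoverage A.hom At φ) :
    AbDual.IsRelPicK Scheme.fppfPrecoverage (DualBC.bcObj b A).hom (DualBC.bcObj b At) (DualBC.phi b φ) := by
  open GrothLib.DualBC in
  refine ⟨fun T T' g c hc => ?_, fun T g => ?_, fun T c c' hc hc' he => ?_⟩
  · rw [phi, phi, pullCl_comp, ← cmp_natural, ← pullCl_comp,
      hφ.natural (res b T) (res b T') (resMap b g) _ (PicLoc.isInvertibleCl_pullCl _ hc), up_comp]
  · obtain ⟨R, hR, hloc⟩ := hφ.locallySurjective (res b T) (down g)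
    refine ⟨R, hR, fun U u hu => ?_⟩
    obtain ⟨c, hc, hce⟩ := hloc u hu
    let j : res b (AbDual.ovr T u) ⟶ AbDual.ovr (res b T) u :=
      Over.homMk (𝟙 U) (by show 𝟙 U ≫ u ≫ T.hom ≫ b = (u ≫ T.hom) ≫ b; simp)
    refine ⟨PicF.pullCl (cmpInv A (AbDual.ovr T u)) (PicF.pullCl (PicF.XTmap A.hom j) c), ?_, ?_⟩
    · exact PicLoc.isInvertibleCl_pullCl _ (PicLoc.isInvertibleCl_pullCl _ hc)
    · rw [phi, pullCl_comp, cmp_cmpInv, pullCl_id, hφ.natural _ _ j _ hc, hce, ← Category.assoc]
      rw [show j ≫ AbDual.ovrHom (res b T) u = resMap b (AbDual.ovrHom T u) from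
        Over.OverMorphism.ext (Category.id_comp u), up_comp, up_down]
  · have he' : φ (res b T) (PicF.pullCl (cmp A T) c) = φ (res b T) (PicF.pullCl (cmp A T) c') := by
      have h := congrArg down he
      rwa [phi, phi, down_up, down_up] at h
    obtain ⟨R, hR, hloc⟩ := hφ.locallyInjective (res b T) _ _ (PicLoc.isInvertibleCl_pullCl _ hc) (PicLoc.isInvertibleCl_pullCl _ hc') he'
    refine ⟨R, hR, fun U u hu => ?_⟩
    let j : res b (AbDual.ovr T u) ⟶ AbDual.ovr (res b T) u :=
      Over.homMk (𝟙 U) (by show 𝟙 U ≫ u ≫ T.hom ≫ b = (u ≫ T.hom) ≫ b; simp)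
    have h := congrArg (PicF.pullCl (PicF.XTmap A.hom j)) (hloc u hu)
    have e : PicF.XTmap A.hom j ≫ PicF.XTmap A.hom (AbDual.ovrHom (res b T) u) =
        PicF.XTmap A.hom (resMap b (AbDual.ovrHom T u)) := by
      refine pullback.hom_ext ?_ ?_
      · simp [PicF.XTmap]
      · simp [PicF.XTmap, resMap, j]
    have key : ∀ z, PicF.pullCl (cmpInv A (AbDual.ovr T u)) (PicF.pullCl (PicF.XTmap A.hom j)
        (PicF.pullCl (PicF.XTmap A.hom (AbDual.ovrHom (res b T) u)) (PicF.pullCl (cmp A T) z))) =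
        PicF.pullCl (PicF.XTmap (bcObj b A).hom (AbDual.ovrHom T u)) z := fun z => by
      rw [pullCl_comp (PicF.XTmap A.hom j), e, pullCl_comp (PicF.XTmap A.hom _), cmp_natural, pullCl_comp,
        ← Category.assoc, cmpInv_cmp, Category.id_comp]
    have h' := congrArg (PicF.pullCl (cmpInv A (AbDual.ovr T u))) h
    rwa [key, key] at h'

/-- Quasi-coherent cohomology in degree two of a relative curve over an affine base vanishes. -/
theorem subsingleton_HH_two {A : Type u} [CommRing A] {X : Scheme.{u}} (g : X ⟶ Spec (CommRingCat.of A))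
    [IsProper g] (hd : ∀ y, topologicalKrullDim ↥(g.fiber y) ≤ 1) (M : X.Modules) [M.IsQuasicoherent] :
    Subsingleton (Coh.HH X M 2) := by
  have hz : IsZero ((Coh.RpushAb g 2).obj (Coh.toAb M)) :=
    RLpsi8.FibreVanish.isZero_RpushAb g 1 hd M 2 (by norm_num)
  have h2 := RLpsi8.FibreVanish.subsingleton_ext_of_isZero g M 2 hz (isAffineOpen_top _)
  rw [show g ⁻¹ᵁ (⊤ : (Spec (CommRingCat.of A)).Opens) = (⊤ : X.Opens) from Scheme.Hom.preimage_top g] at h2
  haveI := h2
  exact (Cohom.HEquivTop (T := TopCat.of X) (Coh.toAb M) 2).toEquiv.subsingleton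

theorem pull_surjective {A : Type u} [CommRing A] {X Z : Scheme.{u}} (g : X ⟶ Spec (CommRingCat.of A))
    [IsProper g] (hd : ∀ y, topologicalKrullDim ↥(g.fiber y) ≤ 1) (c : Z ⟶ X) [IsClosedImmersion c]
    (hc : UnitsThick26.IsSqZero c) : Function.Surjective (pull c) := by
  haveI : (Coh.structureModule Z).IsQuasicoherent := WeakAss.isQuasicoherent_structureModule
  haveI : ((Scheme.Modules.pushforward c).obj (Coh.structureModule Z)).IsQuasicoherent :=
    QCoh.isQuasicoherent_pushforward c _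
  haveI : (Coh.structureModule X).IsQuasicoherent := WeakAss.isQuasicoherent_structureModule
  haveI : (UnitsThick26.kerMod c).IsQuasicoherent := QCoh.isQuasicoherent_kernel _
  exact PicH1.pull_surjective_of_H2 hc (subsingleton_HH_two g hd _)

/-- With a section, points lift along thickenings. -/
theorem smooth_of_section {C S : Scheme.{u}} (f : C ⟶ S) [IsProper f] [Flat f] [LocallyOfFinitePresentation f]
    [GeometricallyReduced f] [GeometricallyConnected f]
    (hdim : ∀ s : S, topologicalKrullDim ↥(f.fiber s) ≤ 1) (σ : S ⟶ C) (hσ : σ ≫ f = 𝟙 S)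
    {P : Over S} {φ : ∀ T : Over S, PicF.Cl (PicF.XT f T) → (T ⟶ P)}
    (hP : AbDual.IsRelPicK Scheme.fppfPrecoverage f P φ) [LocallyOfFinitePresentation P.hom] : Smooth P.hom := by
  have ha : ∀ (T : Over S) (U : T.left.Opens), IsIso ((PicF.XTproj f T).app U) := fun T U => by
    haveI : IsProper (PicF.XTproj f T) := inferInstanceAs (IsProper (pullback.snd f T.hom))
    haveI : Flat (PicF.XTproj f T) := inferInstanceAs (Flat (pullback.snd f T.hom))
    haveI : LocallyOfFinitePresentation (PicF.XTproj f T) :=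
      inferInstanceAs (LocallyOfFinitePresentation (pullback.snd f T.hom))
    haveI : GeometricallyReduced (PicF.XTproj f T) := inferInstanceAs (GeometricallyReduced (pullback.snd f T.hom))
    haveI : GeometricallyConnected (PicF.XTproj f T) :=
      inferInstanceAs (GeometricallyConnected (pullback.snd f T.hom))
    refine Groth.Agent.S0981.result (PicF.XTproj f T) (fun K _ _ g => ?_) U
    exact ⟨GeometricallyReduced.geometrically_isReduced g _ _ (IsPullback.of_hasPullback _ g),
      GeometricallyConnected.connectedSpace_of_subsingleton (pullback.snd (PicF.XTproj f T) g)⟩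
  refine TorusNorm25.smooth_of_lift ‹_› fun {A} _ I hI b z₀ => ?_
  obtain ⟨n₀, -, hn₀⟩ := RigDesc26.exists_rigidified_pt f hP σ hσ ha _ z₀
  let T := MultDef14.aff b A
  let i := MultDef14.affMap b (Ideal.Quotient.mkₐ A I)
  haveI : IsClosedImmersion i.left := IsClosedImmersion.spec_of_surjective _ Ideal.Quotient.mk_surjective
  have hpb := RigDesc26.isPullback_XTmap f i
  haveI : IsClosedImmersion (PicF.XTmap f i) :=
    MorphismProperty.of_isPullback (P := @IsClosedImmersion) hpb.flip ‹_›
  haveI : IsProper (PicF.XTproj f T) := inferInstanceAs (IsProper (pullback.snd f T.hom))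
  have hsqz := TorsPic29.isSqZero_of_pullback_sq (φ := Ideal.Quotient.mk I) (j := PicF.XTmap f i)
    (g := PicF.XTproj f T) (p := PicF.XTproj f _) hpb Ideal.Quotient.mk_surjective
    (by rw [Ideal.mk_ker, ← pow_two, hI])
  have hd : ∀ y, topologicalKrullDim ↥((PicF.XTproj f T).fiber y) ≤ 1 := fun y =>
    (FibreBC.topologicalKrullDim_fiber (IsPullback.of_hasPullback f T.hom) y).le.trans (hdim _)
  obtain ⟨n, hn⟩ := pull_surjective (A := A) (PicF.XTproj f T) hd (PicF.XTmap f i) hsqz n₀
  refine ⟨RigDesc26.pt f φ T n, ?_⟩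
  rw [← RigDesc26.pt_pull f hP, hn, hn₀]

/-- Etale locally on the base there are sections. -/
theorem exists_local_section {C S : Scheme.{u}} (f : C ⟶ S) [Flat f] [LocallyOfFinitePresentation f]
    [GeometricallyReduced f] [GeometricallyConnected f] (s : S) :
    ∃ (V : S.Opens) (S' : Scheme.{u}) (g : S' ⟶ V) (h : S' ⟶ C), s ∈ V ∧ Etale g ∧ Surjective g ∧ QuasiCompact g ∧
      h ≫ f = g ≫ V.ι := by
  let q := f.fiberToSpecResidueField s
  haveI : LocallyOfFinitePresentation q := MorphismProperty.pullback_snd f _ inferInstance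
  haveI : GeometricallyConnected q :=
    inferInstanceAs (GeometricallyConnected (pullback.snd f (S.fromSpecResidueField s)))
  haveI : ConnectedSpace ↥(f.fiber s) := GeometricallyConnected.connectedSpace_of_subsingleton q
  obtain ⟨z, hz⟩ := (GrothLib.SepPts.dense_smoothLocus (k := S.residueField s) q).nonempty
  let x := f.fiberι s z
  have hxs : f x = s := (f.range_fiberι s).le ⟨z, rfl⟩
  have key : ∀ (t : S) (w : f.fiber t) (y : C) (hL : LocallyOfFinitePresentation (f.fiberToSpecResidueField t)),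
      f y = t → f.fiberι t w = y → w ∈ (f.fiberToSpecResidueField t).smoothLocus → y ∈ f.smoothLocus := by
    rintro t w y hL rfl hwy hw
    exact (GrothLib.LocProp.smooth_nhd_iff f y).mp (GrothLib.EtLocal.smooth_nhd_of_flat_of_fibre_nhd f y
      (Flat.stalkMap f y) w hwy ((GrothLib.LocProp.smooth_nhd_iff _ _).mpr hw))
  have hxm : x ∈ f.smoothLocus := key s z x ‹_› hxs rfl hz
  haveI : Smooth (f.smoothLocus.ι ≫ f) := GenericSmooth.smooth_smoothLocus_ι_comp f
  obtain ⟨S', g, s', _, hgs, h, hh⟩ := Groth.Agent.S0412.result (f.smoothLocus.ι ≫ f) s ⟨⟨x, hxm⟩, hxs⟩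
  obtain ⟨W, hW, hsW, -⟩ := exists_isAffineOpen_mem_and_subset (x := s) (U := (⊤ : S.Opens)) trivial
  obtain ⟨W', hW', hs'W, hW'W⟩ := exists_isAffineOpen_mem_and_subset (x := s') (U := g ⁻¹ᵁ W)
    (show g s' ∈ W by rwa [hgs])
  let g₁ : W'.toScheme ⟶ S := W'.ι ≫ g
  haveI : Etale g₁ := inferInstanceAs (Etale (W'.ι ≫ g))
  let V : S.Opens := ⟨Set.range g₁, g₁.isOpenMap.isOpen_range⟩
  have hr : Set.range g₁ ⊆ Set.range V.ι := by rw [Scheme.Opens.range_ι]; exact le_rfl
  let g' : W'.toScheme ⟶ V := IsOpenImmersion.lift V.ι g₁ hr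
  have hg' : g' ≫ V.ι = g₁ := IsOpenImmersion.lift_fac _ _ _
  haveI : Etale (g' ≫ V.ι) := hg'.symm ▸ ‹Etale g₁›
  haveI : IsAffine W'.toScheme := hW'
  have hVW : V ≤ W := by rintro _ ⟨w, rfl⟩; exact hW'W w.2
  haveI : IsAffine W.toScheme := hW
  haveI : IsAffineHom g' :=
    MorphismProperty.of_postcomp (W := @IsAffineHom) (W' := @IsSeparated) g' (S.homOfLE hVW) inferInstance
      inferInstance
  haveI : QuasiCompact g' := inferInstance
  refine ⟨V, W'.toScheme, g', W'.ι ≫ h ≫ f.smoothLocus.ι, ⟨⟨s', hs'W⟩, hgs⟩,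
    MorphismProperty.of_postcomp (W := @Etale) g' V.ι (inferInstance : IsOpenImmersion V.ι) ‹_›, ⟨fun v => ?_⟩, ‹_›, ?_⟩
  · obtain ⟨w, hw⟩ := v.2
    refine ⟨w, V.ι.isOpenEmbedding.injective ?_⟩
    rw [← Scheme.Hom.comp_apply, hg']
    exact hw
  · rw [Category.assoc, Category.assoc, hh, hg']

end GrothLib.PicSmooth26
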